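import Mathlib

set_option autoImplicit false
universe u

namespace Groth.Agent.H5.VR

open scoped nonZeroDivisors

/-- Every f.g. ideal of a localization is the extension of a f.g. ideal. -/
theorem exists_fg_map_eq {A : Type u} [CommRing A] (S : Submonoid A) (L : Type u) [CommRing L]
    [Algebra A L] [IsLocalization S L] (J : Ideal L) (hJ : J.FG) :
    ∃ I : Ideal A, I.FG ∧ I.map (algebraMap A L) = J := by
  induction J, hJ using Submodule.fg_induction with
  | singleton x =>
    obtain ⟨a, s, rfl⟩ := IsLocalization.exists_mk'_eq S x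
    refine ⟨Ideal.span {a}, ⟨{a}, by simp⟩, ?_⟩
    rw [Ideal.map_span, Set.image_singleton]
    have h : IsLocalization.mk' L a s * algebraMap A L s = algebraMap A L a :=
      IsLocalization.mk'_spec L a s
    rw [← h]
    exact Ideal.span_singleton_mul_right_unit (IsLocalization.map_units L s) _
  | sup J₁ J₂ _ _ h₁ h₂ =>
    obtain ⟨I₁, hI₁, rfl⟩ := h₁
    obtain ⟨I₂, hI₂, rfl⟩ := h₂
    exact ⟨I₁ ⊔ I₂, Submodule.FG.sup hI₁ hI₂, Ideal.map_sup _ _ _⟩

/-- If all f.g. ideals of `A` are flat then so are all f.g. ideals of a localization. -/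
theorem flat_of_fg_of_localization {A : Type u} [CommRing A]
    (h : ∀ I : Ideal A, I.FG → Module.Flat A I) (S : Submonoid A) (L : Type u) [CommRing L]
    [Algebra A L] [IsLocalization S L] (J : Ideal L) (hJ : J.FG) : Module.Flat L J := by
  obtain ⟨I, hI, rfl⟩ := exists_fg_map_eq S L J hJ
  haveI := h I hI
  exact Module.Flat.of_isLocalizedModule L S (Algebra.idealMap L I)

/-- In a local ring in which f.g. ideals are flat, f.g. ideals are free. -/
theorem free_of_fg {L : Type u} [CommRing L] [IsLocalRing L]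
    (h : ∀ J : Ideal L, J.FG → Module.Flat L J) (J : Ideal L) (hJ : J.FG) : Module.Free L J := by
  haveI := h J hJ
  haveI : Module.Finite L J := Module.Finite.iff_fg.mpr hJ
  exact Module.free_of_flat_of_isLocalRing

theorem isDomain_of_fg_flat {L : Type u} [CommRing L] [IsLocalRing L]
    (h : ∀ J : Ideal L, J.FG → Module.Flat L J) : IsDomain L := by
  haveI : NoZeroDivisors L := by
    refine ⟨fun {x y} hxy => ?_⟩
    by_contra hne
    push Not at hne
    obtain ⟨hx, hy⟩ := hne
    have hfree : Module.Free L (Ideal.span {x}) := free_of_fg h _ ⟨{x}, by simp⟩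
    haveI : Nontrivial (Ideal.span {x} : Ideal L) := by
      refine ⟨⟨⟨x, Ideal.mem_span_singleton_self x⟩, 0, ?_⟩⟩
      intro h0
      exact hx (congrArg Subtype.val h0)
    haveI : FaithfulSMul L (Ideal.span {x} : Ideal L) := inferInstance
    apply hy
    apply FaithfulSMul.eq_of_smul_eq_smul (α := (Ideal.span {x} : Ideal L))
    rintro ⟨m, hm⟩
    obtain ⟨c, rfl⟩ := Ideal.mem_span_singleton'.mp hm
    apply Subtype.ext
    simp only [SetLike.mk_smul_mk, smul_eq_mul, zero_mul]
    rw [mul_comm c x, ← mul_assoc, mul_comm y x, hxy, zero_mul]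
  exact NoZeroDivisors.to_isDomain L

end Groth.Agent.H5.VR
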