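import Mathlib
import Groth.Agent.Lib.Helper5.VR.A

set_option autoImplicit false
universe u

namespace Groth.Agent.H5.VR

open scoped nonZeroDivisors

/-- An ideal which is free as a module is principal. -/
theorem isPrincipal_of_free {L : Type u} [CommRing L] [Nontrivial L] (J : Ideal L)
    [Module.Free L J] : J.IsPrincipal := by
  classical
  let bs := Module.Free.chooseBasis L J
  have hsub : Subsingleton (Module.Free.ChooseBasisIndex L J) := by
    refine ⟨fun i j => ?_⟩
    by_contra hij
    have e : (bs j).val • bs i = (bs i).val • bs j := Subtype.ext (by simp [mul_comm])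
    have e2 := congrArg (fun m => bs.repr m i) e
    simp only [map_smul, Module.Basis.repr_self, Finsupp.smul_single, smul_eq_mul, mul_one,
      Finsupp.single_eq_same] at e2
    rw [Finsupp.single_eq_of_ne (Ne.symm (Ne.symm hij))] at e2
    exact bs.ne_zero j (Subtype.ext e2)
  rcases isEmpty_or_nonempty (Module.Free.ChooseBasisIndex L J) with hemp | ⟨⟨i⟩⟩
  · have : J = ⊥ := by
      rw [eq_bot_iff]
      intro m hm
      have : (⟨m, hm⟩ : J) = 0 := bs.repr.injective (Subsingleton.elim _ _)
      simpa using congrArg Subtype.val this
    rw [this]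
    infer_instance
  · refine ⟨⟨(bs i).val, ?_⟩⟩
    apply le_antisymm
    · intro m hm
      have h1 : (⟨m, hm⟩ : J) = bs.repr ⟨m, hm⟩ i • bs i := by
        apply bs.repr.injective
        ext j
        obtain rfl : j = i := Subsingleton.elim _ _
        simp
      have h2 := congrArg Subtype.val h1
      simp only [SetLike.val_smul, smul_eq_mul] at h2
      rw [h2]
      exact Ideal.mul_mem_left _ _ (Ideal.subset_span rfl)
    · change Ideal.span {(bs i).val} ≤ J
      rw [Ideal.span_singleton_le_iff_mem]
      exact (bs i).2

theorem valuationRing_of_fg_flat {L : Type u} [CommRing L] [IsLocalRing L] [IsDomain L]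
    (h : ∀ J : Ideal L, J.FG → Module.Flat L J) : ValuationRing L := by
  rw [ValuationRing.iff_local_bezout_domain]
  refine ⟨inferInstance, ?_⟩
  rw [IsBezout.iff_span_pair_isPrincipal]
  intro x y
  classical
  haveI : Module.Free L (Ideal.span {x, y}) :=
    free_of_fg h _ (Submodule.fg_span (Set.toFinite {x, y}))
  exact isPrincipal_of_free _

/-- (2) ⇒ (4). -/
theorem valuationRing_localization {A : Type u} [CommRing A]
    (h : ∀ I : Ideal A, I.FG → Module.Flat A I) (p : Ideal A) [p.IsPrime] :
    ∃ _ : IsDomain (Localization.AtPrime p), ValuationRing (Localization.AtPrime p) := by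
  have hL : ∀ J : Ideal (Localization.AtPrime p), J.FG → Module.Flat (Localization.AtPrime p) J :=
    fun J hJ => flat_of_fg_of_localization h p.primeCompl _ J hJ
  haveI := isDomain_of_fg_flat hL
  exact ⟨inferInstance, valuationRing_of_fg_flat hL⟩

end Groth.Agent.H5.VR
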