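import Mathlib
import Groth.Agent.Lib.Helper5.VR.B

set_option autoImplicit false
universe u

namespace Groth.Agent.H5.VR

open scoped nonZeroDivisors

theorem torsion_eq_bot_of_injective {L : Type*} [CommRing L] {N M : Type*} [AddCommGroup N]
    [AddCommGroup M] [Module L N] [Module L M] (f : N →ₗ[L] M) (hf : Function.Injective f)
    (h : Submodule.torsion L M = ⊥) : Submodule.torsion L N = ⊥ := by
  rw [eq_bot_iff]
  rintro x ⟨a, ha⟩
  have : f x ∈ Submodule.torsion L M := by
    refine ⟨a, ?_⟩
    have ha' : (a : L) • x = 0 := ha
    change (a : L) • f x = 0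
    rw [← map_smul, ha', map_zero]
  rw [h] at this
  exact hf (by simpa using this)

/-- (4) ⇒ (3). -/
theorem flat_submodule_of_valuationRing {A : Type u} [CommRing A]
    (h : ∀ (p : Ideal A) [p.IsPrime],
      ∃ _ : IsDomain (Localization.AtPrime p), ValuationRing (Localization.AtPrime p))
    (M : Type u) [AddCommGroup M] [Module A M] [Module.Flat A M] (N : Submodule A M) :
    Module.Flat A N := by
  apply Module.flat_of_localized_maximal
  intro P hP
  obtain ⟨hdom, hval⟩ := h P
  rw [← Module.flat_iff_of_isLocalization (Localization.AtPrime P) P.primeCompl]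
  haveI : IsBezout (Localization.AtPrime P) :=
    (ValuationRing.iff_local_bezout_domain.mp hval).2
  rw [Module.Flat.flat_iff_torsion_eq_bot_of_isBezout]
  refine torsion_eq_bot_of_injective (LocalizedModule.map P.primeCompl N.subtype)
    (LocalizedModule.map_injective _ _ N.injective_subtype) ?_
  exact Module.Flat.torsion_eq_bot

end Groth.Agent.H5.VR
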